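import Cfsg.Agent.H505.Rs.POne

/-!
# S3691: `BoxP1` (helper505)
-/

set_option autoImplicit false
set_option linter.unusedSectionVars false

open Cfsg Cfsg.Geo Module Cfsg.Agent.ClassicalGeometry.SympBasic
open scoped MatrixGroups Matrix

namespace Cfsg.Agent.H505.Rs

section tr

variable {F : Type*} [Field F] {m : ℕ} {C : Subgroup (GL (Fin m ⊕ Fin m) F)} {v w : Fin m ⊕ Fin m → F} {h : Setup C v w}

theorem fw' {d : C} (hd : lam h d = 1) :
    actV C d w = w + (pr h.one (actV C d w) : Orth (Wp v w)) + sympForm m F (actV C d w) w • v := by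
  have hv : actV C d v = v := by rw [act_v' h, hd, one_smul]
  have h1 : sympForm m F (actV C d w) v = -1 := by
    conv_lhs => rw [← hv]
    rw [actV_form h.iso, wv h.one]
  rw [pr_coe, h1, neg_smul, one_smul]
  abel

/-- the translation part of a product -/
theorem Tr.mulw {c d : C} (hc : Tr h c) (hd : lam h d = 1) :
    ∃ δ : F, actV C c (actV C d w) = actV C d w + (pr h.one (actV C c w) : Orth (Wp v w)) + δ • v := by
  have e1 := fw' (h := h) hd
  have e2 := hc.fw
  have e3 := hc.fu (pr h.one (actV C d w))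
  generalize sympForm m F (actV C c (pr h.one (actV C d w) : Orth (Wp v w))) w = β at e3
  generalize sympForm m F (actV C c w) w = γ at e2
  generalize hu : (pr h.one (actV C d w)) = u at e1 e3
  generalize sympForm m F (actV C d w) w = γ1 at e1
  refine ⟨γ + β, ?_⟩
  generalize hz : ((pr h.one (actV C c w) : Orth (Wp v w)) : Fin m ⊕ Fin m → F) = z at e2 ⊢
  rw [e1, map_add, map_add, map_smul, hc.fv, e2, e3, add_smul]
  abel

/-- conjugation -/
theorem Tr.conj {c y : C} (hc : Tr h c) (hy : lam h y = 1) :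
    pr h.one (actV C (y * c * y⁻¹) w) = rho h y (pr h.one (actV C c w)) := by
  have hy' : lam h y⁻¹ = 1 := by
    have h1 : lam h y * lam h y⁻¹ = 1 := by rw [← map_mul, mul_inv_cancel, map_one]
    rwa [hy, one_mul] at h1
  obtain ⟨δ, h1⟩ := hc.mulw hy'
  have h2 : actV C y (actV C y⁻¹ w) = w := by
    rw [← Module.End.mul_apply, ← map_mul, mul_inv_cancel, map_one, Module.End.one_apply]
  have hv : actV C y v = v := by rw [act_v' h, hy, one_smul]
  rw [map_mul, map_mul, Module.End.mul_apply, Module.End.mul_apply, h1, map_add (actV C y), map_add (actV C y), h2,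
    map_smul, hv, map_add, map_add, pr_w h.one, map_smul, pr_v h.one, smul_zero, add_zero, zero_add]
  rfl

end tr

theorem boxP1 : H659.Rs.BoxP1 := by
  intro F _ _ m f r hm hf hF hr v hv C hC hCv hrC
  classical
  have hfinC : Finite C := inferInstance
  obtain ⟨w, hw⟩ : ∃ w, sympForm m F v w = 1 := by
    obtain ⟨x, hx⟩ : ∃ x, sympForm m F v x ≠ 0 := by
      by_contra hcon
      push Not at hcon
      exact hv (eq_zero_of_forall_sympForm_right hcon)
    exact ⟨(sympForm m F v x)⁻¹ • x, by rw [sympForm_smul_right, inv_mul_cancel₀ hx]⟩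
  have h : Setup C v w := ⟨hC, hCv, hw⟩
  have h2 : (2 : F) = 0 := by
    have h3 : ((Fintype.card F : ℕ) : F) = 0 := Nat.cast_card_eq_zero F
    rw [hF, Nat.cast_pow] at h3
    have h4 := eq_zero_of_pow_eq_zero h3
    exact_mod_cast h4
  obtain ⟨φ, hφ, hφ1⟩ := exists_hom (LinearMap.BilinForm.restrict (bil m F) (Orth (Wp v w))) (fun x => sympForm_self _)
    (Orth_nd (Wp_nd hw)) (finrank_Orth (finrank_Wp hw)) (rho h) (fun c x y => rho_form h c x y)
  let L : C →* Fˣ := (lam h).toHomUnits
  have hL : ∀ c : C, L c = 1 ↔ lam h c = 1 := fun c => Units.ext_iff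
  let φ' : L.ker →* GL (Fin (m - 1) ⊕ Fin (m - 1)) F := φ.comp L.ker.subtype
  have hA : ∀ x : L.ker, x ∈ φ'.ker ↔ Tr h x.1 := by
    intro x
    constructor
    · intro hx
      exact ⟨(hL _).1 x.2, (hφ1 _).1 hx⟩
    · intro hx
      exact (hφ1 _).2 hx.2
  have hcard1 : Nat.card C = Nat.card L.range * Nat.card L.ker := by
    rw [← Nat.card_congr (QuotientGroup.quotientKerEquivRange L).toEquiv]
    exact Subgroup.card_eq_card_quotient_mul_card_subgroup L.ker
  have hcard2 : Nat.card L.ker = Nat.card φ'.range * Nat.card φ'.ker := by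
    rw [← Nat.card_congr (QuotientGroup.quotientKerEquivRange φ').toEquiv]
    exact Subgroup.card_eq_card_quotient_mul_card_subgroup φ'.ker
  have hFu : Nat.card Fˣ = 2 ^ f - 1 := by rw [Nat.card_units, Nat.card_eq_fintype_card, hF]
  refine ⟨φ'.range, Nat.card φ'.ker, Nat.card L.range, ?_, ?_, ?_, ?_, ?_⟩
  · rintro _ ⟨c, rfl⟩
    exact hφ c.1
  · rw [hcard1, hcard2]
    ring
  · rw [← hFu]
    exact Subgroup.card_subgroup_dvd_card _
  · -- a 2-group
    have : Fact (Nat.Prime 2) := ⟨Nat.prime_two⟩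
    have hp : IsPGroup 2 φ'.ker := by
      intro x
      refine ⟨2, ?_⟩
      have h3 := ((hA x.1).1 x.2).pow_four h2
      exact Subtype.ext (Subtype.ext h3)
    obtain ⟨n, hn⟩ := IsPGroup.iff_card.1 hp
    exact ⟨n, hn⟩
  · -- the element of order `r`
    have hr1 := hr.prime
    have := Fact.mk hr1
    obtain ⟨y, hy⟩ := exists_prime_orderOf_dvd_card' r hrC
    have hn0 : 0 < (2 * m - 2) * f := Nat.mul_pos (by omega) hf
    have hr2 := ne_two hr hn0
    have hLy : L y = 1 := by
      have h3 : orderOf (L y) ∣ r := hy ▸ orderOf_map_dvd L y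
      rcases (Nat.dvd_prime hr1).1 h3 with h4 | h4
      · exact orderOf_eq_one_iff.1 h4
      · exfalso
        have h5 : r ∣ 2 ^ f - 1 := by
          rw [← h4, ← hFu]
          exact orderOf_dvd_natCard _
        have h6 : 2 ^ f ≡ 1 [MOD r] := ((Nat.modEq_iff_dvd' (Nat.one_le_two_pow)).2 h5).symm
        have h7 := (two_pow_modEq hr f).1 h6
        have h8 := Nat.le_of_dvd hf h7
        have h9 : 2 * f ≤ (2 * m - 2) * f := Nat.mul_le_mul_right f (by omega)
        omega
    have hly : lam h y = 1 := (hL y).1 hLy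
    have hY : (rho h y) ^ r = 1 := by rw [← map_pow, ← hy, pow_orderOf_eq_one, map_one]
    have hY1 : rho h y ≠ 1 := by
      intro h3
      have h4 : y ^ 4 = 1 := Tr.pow_four h2 (h := h) ⟨hly, h3⟩
      have h5 : r ∣ 2 ^ 2 := hy ▸ orderOf_dvd_of_pow_eq_one h4
      exact hr2 ((Nat.prime_dvd_prime_iff_eq hr1 Nat.prime_two).1 (hr1.dvd_of_dvd_pow h5))
    -- the translation part
    have hone : ∀ x : φ'.ker, Tr h x.1.1 := fun x => (hA x.1).1 x.2
    let ψ : Additive φ'.ker →+ Orth (Wp v w) :=
      { toFun := fun x => pr h.one (actV C (Additive.toMul x).1.1 w)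
        map_zero' := by
          change pr h.one (actV C 1 w) = 0
          rw [map_one, Module.End.one_apply, pr_w]
        map_add' := fun x z => by
          change pr h.one (actV C ((Additive.toMul x).1.1 * (Additive.toMul z).1.1) w) =
            pr h.one (actV C (Additive.toMul x).1.1 w) + pr h.one (actV C (Additive.toMul z).1.1 w)
          obtain ⟨δ, h3⟩ := (hone (Additive.toMul x)).mulw (hone (Additive.toMul z)).1
          rw [map_mul, Module.End.mul_apply, h3, map_add, map_add, map_smul, pr_v, smul_zero, add_zero, pr_U, add_comm] }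
    have hψ : ∀ x : φ'.ker, ψ (Additive.ofMul x) = pr h.one (actV C x.1.1 w) := fun x => rfl
    have hst : ∀ u ∈ ψ.range, rho h y u ∈ ψ.range := by
      rintro _ ⟨x, rfl⟩
      have hn : (⟨y, hLy⟩ : L.ker) * (Additive.toMul x).1 * (⟨y, hLy⟩ : L.ker)⁻¹ ∈ φ'.ker :=
        (MonoidHom.normal_ker φ').conj_mem _ (Additive.toMul x).2 _
      refine ⟨Additive.ofMul ⟨_, hn⟩, ?_⟩
      rw [hψ]
      exact (hone (Additive.toMul x)).conj hly
    have hfinU : Finite (Orth (Wp v w)) := inferInstance
    have hI := stable_card hm hf hF (finrank_Orth (finrank_Wp hw)) hr (rho h y) hY hY1 ψ.range hst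
    have hcA : Nat.card φ'.ker = Nat.card ψ.range * Nat.card ψ.ker := by
      rw [← Nat.card_congr (QuotientAddGroup.quotientKerEquivRange ψ).toEquiv]
      exact AddSubgroup.card_eq_card_quotient_mul_card_addSubgroup ψ.ker
    rcases hI with hI | hI
    · left
      rw [hcA, hI, one_mul, ← hF, ← Nat.card_eq_fintype_card]
      let g : ψ.ker → F := fun x => sympForm m F (actV C (Additive.toMul x.1).1.1 w) w
      refine Nat.card_le_card_of_injective g ?_
      intro x z hxz
      have h3 := (hone (Additive.toMul x.1)).ext (hone (Additive.toMul z.1)) x.2 z.2 hxz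
      exact Subtype.ext (Subtype.ext (Subtype.ext h3))
    · right
      rw [hcA, hI]
      exact Nat.le_mul_of_pos_right _ Nat.card_pos

end Cfsg.Agent.H505.Rs
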