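import Cfsg.Agent.H505.Rs.NTwo

/-!
# S3691: elements of primitive prime order act irreducibly over the prime field (helper505)

* `pow_modEq_one` : `2 ^ k ≡ 1` modulo `r` if and only if `n ∣ k`, for `Pm n r`;
* `card_mod_fixed` : the congruence for the fixed points of a linear map of prime order;
* `stable_card` : a stable additive subgroup is trivial or everything.
-/

set_option autoImplicit false
set_option linter.unusedSectionVars false

open Cfsg Cfsg.Geo Module

namespace Cfsg.Agent.H505.Rs

open Cfsg.Agent.H659.Rs (Pm)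

theorem two_pow_modEq {n r : ℕ} (h : Pm n r) (k : ℕ) : 2 ^ k ≡ 1 [MOD r] ↔ n ∣ k := by
  rw [← h.ord, orderOf_dvd_iff_pow_eq_one, ← ZMod.natCast_eq_natCast_iff]
  push_cast
  exact Iff.rfl

theorem ne_two {n r : ℕ} (h : Pm n r) (hn : 0 < n) : r ≠ 2 := by
  rintro rfl
  have h1 := (two_pow_modEq h n).2 dvd_rfl
  have h2 : (2 ^ n) % 2 = 1 % 2 := h1
  rw [Nat.pow_mod, Nat.mod_self, zero_pow hn.ne'] at h2
  omega

/-- the fixed points of a permutation of prime order -/
theorem card_fix_modEq {α : Type*} [Finite α] {r : ℕ} (hr : r.Prime) (f : α → α) (hf : ∀ x, f^[r] x = x) :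
    Nat.card α ≡ Nat.card {x : α // f x = x} [MOD r] := by
  classical
  have := Fintype.ofFinite α
  have := Fact.mk hr
  let g : Function.End α := f
  have hg : ∀ n : ℕ, (g ^ n : Function.End α) = f^[n] := by
    intro n
    induction n with
    | zero => rfl
    | succ n ih => rw [pow_succ, ih, Function.iterate_succ]; rfl
  have h1 : g ^ r ^ 1 = 1 := by
    rw [pow_one, hg]
    funext x
    exact hf x
  have h2 := Equiv.Perm.card_fixedPoints_modEq (f := g) (p := r) (n := 1) h1
  rw [← Nat.card_eq_fintype_card, ← Nat.card_eq_fintype_card] at h2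
  exact h2

section

variable {F U : Type*} [Field F] [Fintype F] [AddCommGroup U] [Module F U] [Finite U]

theorem End_iter (Y : Module.End F U) (n : ℕ) (x : U) : (fun z => Y z)^[n] x = (Y ^ n) x := by
  induction n generalizing x with
  | zero => rfl
  | succ n ih =>
    rw [Function.iterate_succ_apply, ih, pow_succ]
    rfl

/-- stable additive subgroups -/
theorem stable_card {m f r : ℕ} (hm : 3 ≤ m) (hf : 1 ≤ f) (hF : Fintype.card F = 2 ^ f) (hU : finrank F U = 2 * (m - 1))
    (hr : Pm ((2 * m - 2) * f) r) (Y : Module.End F U) (hY : Y ^ r = 1) (hY1 : Y ≠ 1) (I : AddSubgroup U)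
    (hI : ∀ x ∈ I, Y x ∈ I) : Nat.card I = 1 ∨ Nat.card I = (2 ^ f) ^ (2 * m - 2) := by
  have h2m : 2 * (m - 1) = 2 * m - 2 := by omega
  have hcU : Nat.card U = 2 ^ ((2 * m - 2) * f) := by
    rw [Module.natCard_eq_pow_finrank (K := F), Nat.card_eq_fintype_card, hF, hU, h2m, ← pow_mul, mul_comm]
  have hn0 : 0 < (2 * m - 2) * f := Nat.mul_pos (by omega) hf
  -- the fixed points of `Y`
  let S : Submodule F U := LinearMap.ker (Y - 1)
  have hmem : ∀ x, x ∈ S ↔ Y x = x := by
    intro x
    rw [LinearMap.mem_ker, LinearMap.sub_apply, Module.End.one_apply, sub_eq_zero]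
  have h1 := card_fix_modEq hr.prime (fun x : U => Y x) (fun x => by rw [End_iter, hY, Module.End.one_apply])
  have h2 : Nat.card {x : U // Y x = x} = 2 ^ (finrank F S * f) := by
    have h3 : Nat.card S = 2 ^ (finrank F S * f) := by
      rw [Module.natCard_eq_pow_finrank (K := F) (V := S), Nat.card_eq_fintype_card, hF, ← pow_mul, mul_comm f]
    rw [← h3]
    exact Nat.card_congr (Equiv.subtypeEquivRight fun x => (hmem x).symm)
  rw [h2, hcU] at h1
  have h3 := (two_pow_modEq hr _).2 (dvd_refl ((2 * m - 2) * f))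
  have h4 := (two_pow_modEq hr _).1 (h1.symm.trans h3)
  have h5 : (2 * m - 2) ∣ finrank F S := Nat.dvd_of_mul_dvd_mul_right hf h4
  have h6 : finrank F S ≤ 2 * m - 2 := by
    rw [← h2m, ← hU]
    exact Submodule.finrank_le S
  have hS0 : S = ⊥ := by
    rcases Nat.eq_zero_or_pos (finrank F S) with h7 | h7
    · exact Submodule.finrank_eq_zero.1 h7
    · exfalso
      have h8 := Nat.le_of_dvd h7 h5
      have h9 : S = ⊤ := Submodule.eq_top_of_finrank_eq (by rw [hU, h2m]; omega)
      apply hY1
      refine LinearMap.ext fun x => ?_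
      exact (hmem x).1 (h9 ▸ Submodule.mem_top)
  -- the stable subgroup
  let g : I → I := fun x => ⟨Y x, hI x x.2⟩
  have hg : ∀ (n : ℕ) (x : I), ((g^[n] x : I) : U) = (Y ^ n) x := by
    intro n
    induction n with
    | zero => intro x; rfl
    | succ n ih =>
      intro x
      rw [Function.iterate_succ_apply, ih, pow_succ]
      rfl
  have h10 := card_fix_modEq hr.prime g (fun x => Subtype.ext (by rw [hg, hY, Module.End.one_apply]))
  have h11 : Nat.card {x : I // g x = x} = 1 := by
    rw [Nat.card_eq_one_iff_unique]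
    refine ⟨⟨?_⟩, ⟨⟨0, Subtype.ext (map_zero Y)⟩⟩⟩
    have key : ∀ x : {x : I // g x = x}, ((x : I) : U) = 0 := by
      intro x
      have h12 : ((x : I) : U) ∈ S := (hmem _).2 (congrArg Subtype.val x.2)
      rw [hS0, Submodule.mem_bot] at h12
      exact h12
    intro x y
    exact Subtype.ext (Subtype.ext ((key x).trans (key y).symm))
  rw [h11] at h10
  have h12 : Nat.card I ∣ 2 ^ ((2 * m - 2) * f) := hcU ▸ AddSubgroup.card_addSubgroup_dvd_card I
  obtain ⟨i, hi, hci⟩ := (Nat.dvd_prime_pow Nat.prime_two).1 h12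
  rw [hci] at h10 ⊢
  have h13 := (two_pow_modEq hr _).1 h10
  rcases Nat.eq_zero_or_pos i with h14 | h14
  · left
    rw [h14, pow_zero]
  · right
    have h15 := Nat.le_of_dvd h14 h13
    rw [le_antisymm hi h15, ← pow_mul, mul_comm]

end

end Cfsg.Agent.H505.Rs
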