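import Cfsg.Agent.H659.Rs.Box3
import Cfsg.Agent.H505.Rs.Irr
import Cfsg.Agent.H905.SLProper
import Cfsg.Agent.SmallSimple.PSLTwoPart

/-!
# S3691, `PSp_8(2^f)`: the factor with `r_8`, `M4A` (helper505)
-/

set_option autoImplicit false
set_option linter.unusedSectionVars false

open Cfsg Cfsg.Geo Module
open scoped MatrixGroups Matrix

namespace Cfsg.Agent.H505.Rs

open Cfsg.Agent.H659.Rs (Pm v2 BoxPsl2 BoxSp4 BoxExt BoxO8m IsL Over4a M4A NoOm)

theorem card_spGL {E : Type*} [Field E] [Fintype E] (k : ℕ) : Nat.card (spGL k E) =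
    Fintype.card E ^ (k ^ 2) * ∏ i ∈ Finset.range k, (Fintype.card E ^ (2 * (i + 1)) - 1) := by
  rw [Nat.card_congr (H16.PSp4.toSymp k E).toEquiv, LieClassical.SympCount.card_symplecticGroup]

/-- a subgroup whose complement is one coset has index one or two -/
theorem card_of_index_two {G : Type*} [Group G] [Finite G] {R L : Subgroup G}
    (h : ∀ x ∈ R, ∀ y ∈ R, x ∉ L → y ∉ L → x⁻¹ * y ∈ L) :
    ∃ i, i ∣ 2 ∧ Nat.card R = i * Nat.card (L.subgroupOf R) := by
  have h1 := Subgroup.card_eq_card_quotient_mul_card_subgroup (L.subgroupOf R)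
  have h2 : Nat.card (R ⧸ L.subgroupOf R) ≤ 2 := by
    by_contra hcon
    push Not at hcon
    have hfin : Finite (R ⧸ L.subgroupOf R) := inferInstance
    have := Fintype.ofFinite (R ⧸ L.subgroupOf R)
    rw [Nat.card_eq_fintype_card] at hcon
    obtain ⟨a, b, hab, ha, hb⟩ : ∃ a b : R ⧸ L.subgroupOf R, a ≠ b ∧ a ≠ (1 : R) ∧ b ≠ (1 : R) := by
      classical
      have h3 : 2 ≤ ((Finset.univ : Finset (R ⧸ L.subgroupOf R)).erase ((1 : R) : R ⧸ L.subgroupOf R)).card := by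
        rw [Finset.card_erase_of_mem (Finset.mem_univ _), Finset.card_univ]
        omega
      obtain ⟨a, ha, b, hb, hab⟩ := Finset.one_lt_card.1 h3
      exact ⟨a, b, hab, Finset.ne_of_mem_erase ha, Finset.ne_of_mem_erase hb⟩
    obtain ⟨x, rfl⟩ := QuotientGroup.mk_surjective a
    obtain ⟨y, rfl⟩ := QuotientGroup.mk_surjective b
    have hx : (x : G) ∉ L := by
      intro hx
      apply ha
      rw [QuotientGroup.eq, Subgroup.mem_subgroupOf]
      change (x : G)⁻¹ * 1 ∈ L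
      rw [mul_one]
      exact L.inv_mem hx
    have hy : (y : G) ∉ L := by
      intro hy
      apply hb
      rw [QuotientGroup.eq, Subgroup.mem_subgroupOf]
      change (y : G)⁻¹ * 1 ∈ L
      rw [mul_one]
      exact L.inv_mem hy
    exact hab (QuotientGroup.eq.2 (h x x.2 y y.2 hx hy))
  refine ⟨_, ?_, h1⟩
  have h3 : 0 < Nat.card (R ⧸ L.subgroupOf R) := Nat.card_pos
  interval_cases Nat.card (R ⧸ L.subgroupOf R)
  · exact one_dvd _
  · exact dvd_rfl

theorem card_inf_eq {G : Type*} [Group G] (R L : Subgroup G) :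
    Nat.card (L.subgroupOf R) = Nat.card (R.subgroupOf L) :=
  Nat.card_congr
    { toFun := fun x => ⟨⟨x.1.1, x.2⟩, x.1.2⟩
      invFun := fun x => ⟨⟨x.1.1, x.2⟩, x.1.2⟩
      left_inv := fun _ => rfl
      right_inv := fun _ => rfl }

theorem pow_eight_sub (q : ℕ) : q ^ 8 - 1 = (q ^ 4 + 1) * (q ^ 4 - 1) := by
  have := Nat.sq_sub_sq (q ^ 4) 1
  rw [one_pow, ← pow_mul] at this
  exact this

theorem pow_four_sub (q : ℕ) : q ^ 4 - 1 = (q ^ 2 + 1) * (q ^ 2 - 1) := by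
  have := Nat.sq_sub_sq (q ^ 2) 1
  rw [one_pow, ← pow_mul] at this
  exact this

/-- the factor with `r_8` -/
theorem m4A (h : Over4a) (h1 : BoxExt) (h2 : BoxSp4) (h3 : BoxPsl2) (h4 : BoxO8m) : M4A := by
  intro F _ _ f r hf hF hr A hA hA1 hno hrA
  obtain ⟨H, hH, hAH⟩ := H905.exists_isMaximalIn_of_lt (lt_of_le_of_ne hA hA1)
  have hrH : r ∣ Nat.card H := hrA.trans (Subgroup.card_dvd_of_le hAH)
  rcases h hf hF hr H hH hrH with ⟨K, hK1, hK2, hK3, hK4⟩ | ⟨Q, hQ1, hQ2, hQ3, hQ4⟩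
  · obtain ⟨E, _, _, R1, hE, hR1, hd1, hd2⟩ := h1 Nat.prime_two (k := 2) (by norm_num) rfl K hK1 hK2 hK3 A hA
      (hAH.trans hK4)
    have hE' : Fintype.card E = 2 ^ (2 * f) := by rw [hE, hF, ← pow_mul, mul_comm]
    have hr2 : r ≠ 2 := ne_two hr (by omega)
    have hrd : ∀ n, r ∣ 2 * n → r ∣ n := by
      intro n hn
      rcases (hr.prime.dvd_mul).1 hn with h5 | h5
      · exact absurd ((Nat.prime_dvd_prime_iff_eq hr.prime Nat.prime_two).1 h5) hr2
      · exact h5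
    have hrR : r ∣ Nat.card R1 := hrd _ (hrA.trans hd1)
    have hr' : Pm (4 * (2 * f)) r := by
      rw [show 4 * (2 * f) = 8 * f by ring]
      exact hr
    have hq1 : 2 ^ (2 * f) = (2 ^ f) ^ 2 := by rw [← pow_mul, mul_comm]
    have hq0 : 0 < 2 ^ f := pow_pos (by norm_num) f
    have hq2 : 2 ∣ 2 ^ f := dvd_pow_self 2 (by omega)
    rcases h2 (F := E) (f := 2 * f) (by omega) hE' hr' R1 hR1 hrR with h5 | ⟨L, hL, hLn, hLi⟩ | h5
    · left
      have h6 : Nat.card R1 = (2 ^ f) ^ 8 * ((2 ^ f) ^ 4 - 1) * ((2 ^ f) ^ 8 - 1) := by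
        rw [h5, card_spGL, Finset.prod_range_succ, Finset.prod_range_succ, Finset.prod_range_zero, one_mul, hE', hq1]
        generalize 2 ^ f = q
        rw [show (q ^ 2) ^ 2 ^ 2 = q ^ 8 by ring, show (q ^ 2) ^ (2 * (0 + 1)) = q ^ 4 by ring,
          show (q ^ 2) ^ (2 * (1 + 1)) = q ^ 8 by ring, mul_assoc]
      rw [h6] at hd1 hd2
      have hpos : 0 < (2 ^ f) ^ 8 * ((2 ^ f) ^ 4 - 1) * ((2 ^ f) ^ 8 - 1) := by
        rw [← h6]
        exact Nat.card_pos
      obtain ⟨c, hc⟩ := hd2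
      refine ⟨c, ?_, by rw [hc, mul_comm]⟩
      rw [hc, mul_comm 2] at hd1
      exact Nat.dvd_of_mul_dvd_mul_left hpos hd1
    · right
      obtain ⟨i, hi, hR1c⟩ := card_of_index_two hLi
      rw [card_inf_eq] at hR1c
      obtain ⟨K', _, _, hK', ⟨eL⟩⟩ := hL.iso
      have hK'' : Fintype.card K' = 2 ^ (4 * f) := by
        rw [hK', hE', ← pow_mul]
        congr 1
        ring
      have hr'' : Pm (2 * (4 * f)) r := by
        rw [show 2 * (4 * f) = 8 * f by ring]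
        exact hr
      have hri : r ∣ Nat.card (R1.subgroupOf L) := by
        rw [hR1c] at hrR
        rcases (hr.prime.dvd_mul).1 hrR with h5 | h5
        · exact absurd ((Nat.prime_dvd_prime_iff_eq hr.prime Nat.prime_two).1 (h5.trans hi)) hr2
        · exact h5
      have hA4 : Nat.card A ∣ 4 * Nat.card (R1.subgroupOf L) := by
        refine hd1.trans ?_
        rw [hR1c, ← mul_assoc]
        exact Nat.mul_dvd_mul_right (mul_dvd_mul_left 2 hi) _
      have hq4 : 2 ^ (4 * f) = (2 ^ f) ^ 4 := by rw [← pow_mul, mul_comm]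
      rcases h3 (S := L) (K := K') (g := 4 * f) (by omega) hK'' ⟨eL⟩ hr'' _ hri with h5 | h5
      · have h6 : Nat.card (R1.subgroupOf L) = (2 ^ f) ^ 4 * ((2 ^ f) ^ 8 - 1) := by
          have h7 := SmallSimple.PSLTwoPart.card_psl_two_even (F := K') (by
            rw [hK'']
            exact (Nat.even_pow.2 ⟨even_two, by omega⟩))
          rw [h5, Subgroup.card_top, Nat.card_congr eL.toEquiv, h7, hK'', hq4]
          generalize 2 ^ f = q
          rw [← pow_mul]
        rw [h6] at hA4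
        refine ⟨hA4, fun h7 => ?_⟩
        exfalso
        have h8 : 2 ^ (4 * f) ∣ Nat.card A := by
          refine dvd_trans ?_ hd2
          rw [hR1c, h6, hq4]
          exact dvd_mul_of_dvd_right (dvd_mul_right _ _) _
        have h9 := (Nat.prime_two.pow_dvd_iff_le_factorization Nat.card_pos.ne').1 h8
        have h10 : (Nat.card A).factorization 2 < 4 * f := h7
        omega
      · rw [hq4] at h5
        have h6 : Nat.card A ∣ 8 * ((2 ^ f) ^ 4 + 1) := by
          refine hA4.trans ?_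
          rw [show 8 * ((2 ^ f) ^ 4 + 1) = 4 * (2 * ((2 ^ f) ^ 4 + 1)) by ring]
          exact mul_dvd_mul_left 4 h5
        refine ⟨h6.trans ?_, fun _ => Or.inl (h6.trans ?_)⟩
        · rw [pow_eight_sub]
          have h7 : 8 ∣ 4 * (2 ^ f) ^ 4 := by
            rw [show 8 = 4 * 2 by norm_num]
            exact mul_dvd_mul_left 4 (dvd_pow hq2 (by norm_num))
          calc 8 * ((2 ^ f) ^ 4 + 1) ∣ (4 * (2 ^ f) ^ 4) * ((2 ^ f) ^ 4 + 1) := Nat.mul_dvd_mul_right h7 _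
            _ ∣ (4 * (2 ^ f) ^ 4) * ((2 ^ f) ^ 4 + 1) * ((2 ^ f) ^ 4 - 1) := dvd_mul_right _ _
            _ = 4 * ((2 ^ f) ^ 4 * (((2 ^ f) ^ 4 + 1) * ((2 ^ f) ^ 4 - 1))) := by ring
        · exact Nat.mul_dvd_mul_right (by norm_num) _
    · right
      rw [hq1, ← pow_mul] at h5
      have h6 : Nat.card A ∣ 2 * ((2 ^ f) ^ 4 * ((2 ^ f) ^ 4 + 1) * ((2 ^ f) ^ 2 - 1)) := hd1.trans (mul_dvd_mul_left 2 h5)
      refine ⟨h6.trans ?_, fun _ => Or.inr h6⟩
      rw [pow_eight_sub, pow_four_sub]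
      refine ⟨2 * ((2 ^ f) ^ 2 + 1), ?_⟩
      ring
  · right
    rcases (h4 hf hF Q hQ1 hQ3 A (hAH.trans hQ4)).2.1 r hr hrA with h5 | ⟨h5, h6⟩
    · exact absurd h5 (hno Q hQ1 hQ2)
    · exact ⟨h5, fun h7 => Or.inl (h6 h7)⟩

end Cfsg.Agent.H505.Rs
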