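import Cfsg.Agent.H505.Rs.MFour
import Cfsg.Agent.H957.SpIndex
import Cfsg.Agent.H883.Bridge
import Cfsg.Agent.Lib.Zsigmondy

/-!
# S3691, `PSp_6(2^f)`: no exact factorization, `Main3` (helper505)
-/

set_option autoImplicit false
set_option linter.unusedSectionVars false
set_option linter.unusedVariables false

open Cfsg Cfsg.Geo Module
open scoped MatrixGroups Matrix

namespace Cfsg.Agent.H505.Rs

open Cfsg.Agent.H659.Rs (Pm v2 BoxPsl2 BoxExt BoxO6p BoxO6m BoxP1 BoxN2 BoxOnly Over3a Over3b CaseA3 CaseB3 Main3 NoOm Pr)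
open Cfsg.Agent.H955 (IsPlus)
open Cfsg.Agent.ClassicalGeometry.SympBasic

section prime

variable {k f r : ℕ}

theorem pm_zero_iff {n : ℕ} (h : Pm n r) (i : ℕ) : r ∣ 2 ^ i - 1 ↔ n ∣ i := by
  have := Fact.mk h.prime
  rw [← h.ord, orderOf_dvd_iff_pow_eq_one, ← ZMod.natCast_eq_zero_iff, Nat.cast_sub (Nat.one_le_pow _ _ (by norm_num)),
    Nat.cast_pow, Nat.cast_one, sub_eq_zero]

theorem pm_iff (h : Pm (k * f) r) (hf : 1 ≤ f) (i : ℕ) : r ∣ (2 ^ f) ^ i - 1 ↔ k ∣ i := by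
  rw [← pow_mul, pm_zero_iff h, mul_comm k f]
  exact Nat.mul_dvd_mul_iff_left (by omega)

theorem pm_two (h : Pm (k * f) r) (hk : 1 ≤ k) (hf : 1 ≤ f) : ¬ r ∣ 2 := by
  intro h2
  exact ne_two h (Nat.mul_pos hk hf) ((Nat.prime_dvd_prime_iff_eq h.prime Nat.prime_two).1 h2)

theorem pm_q (h : Pm (k * f) r) (hk : 1 ≤ k) (hf : 1 ≤ f) (i : ℕ) : ¬ r ∣ (2 ^ f) ^ i := fun h2 =>
  pm_two h hk hf (h.prime.dvd_of_dvd_pow (h.prime.dvd_of_dvd_pow h2))

theorem exists_pm {n : ℕ} (hn : 7 ≤ n) : ∃ r, Pm n r := by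
  obtain ⟨r, hr, h⟩ := Cfsg.Agent.Lib.Zsigmondy.exists_prime_orderOf (a := 2) (n := n) le_rfl (by omega) (by omega)
    (by rintro ⟨-, h6⟩; omega)
  exact ⟨r, hr, h⟩

end prime

variable {F : Type} [Field F] [Fintype F] {f k r t : ℕ}

/-- `r_3`, `r_6` do not divide the order of `Sp_4(q)` -/
theorem sp4_ndvd (hf : 1 ≤ f) (hF : Fintype.card F = 2 ^ f) (hk : k = 3 ∨ k = 6) (hr : Pm (k * f) r)
    {C1 : Subgroup (GL (Fin 2 ⊕ Fin 2) F)} (hC1 : C1 ≤ spGL 2 F) : ¬ r ∣ Nat.card C1 := by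
  intro h
  have h1 := h.trans (Subgroup.card_dvd_of_le hC1)
  rw [card_spGL, Finset.prod_range_succ, Finset.prod_range_succ, Finset.prod_range_zero, one_mul, hF] at h1
  have hk1 : 1 ≤ k := by omega
  rcases hr.prime.dvd_mul.1 h1 with h1 | h1
  · exact pm_q hr hk1 hf _ h1
  · rcases hr.prime.dvd_mul.1 h1 with h1 | h1
    · rw [pm_iff hr hf] at h1
      have := Nat.le_of_dvd (by omega) h1
      omega
    · rw [pm_iff hr hf] at h1
      rcases hk with rfl | rfl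
      · omega
      · omega

/-- the stabilisers of a point and of a nondegenerate 2-space -/
theorem fix_ndvd (h8 : BoxP1) (h9 : BoxN2) (hf : 1 ≤ f) (hF : Fintype.card F = 2 ^ f) (hk : k = 3 ∨ k = 6)
    (hr : Pm (k * f) r) (ht : Pm (4 * f) t) {C : Subgroup (GL (Fin 3 ⊕ Fin 3) F)} (hC : C ≤ spGL 3 F)
    (htC : t ∣ Nat.card C)
    (hfix : (∃ v : Fin 3 ⊕ Fin 3 → F, v ≠ 0 ∧ C ≤ subspaceStabilizer (Submodule.span F {v})) ∨
      (∃ W : Submodule F (Fin 3 ⊕ Fin 3 → F), finrank F W = 2 ∧ IsNondegenerateOn (sympForm 3 F) W ∧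
        C ≤ subspaceStabilizer W)) : ¬ r ∣ Nat.card C := by
  intro h
  have hk1 : 1 ≤ k := by omega
  have hq : ¬ r ∣ 2 ^ f := by
    have := pm_q hr hk1 hf 1
    rwa [pow_one] at this
  rcases hfix with ⟨v, hv, hCv⟩ | ⟨W, hW1, hW2, hCW⟩
  · obtain ⟨C1, a, t', hC1, hc, ht', ⟨i, ha⟩, -⟩ := h8 (m := 3) (by norm_num) hf hF (by norm_num; exact ht) v hv C hC
      hCv htC
    rw [hc] at h
    rcases hr.prime.dvd_mul.1 h with h | h
    · rcases hr.prime.dvd_mul.1 h with h | h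
      · rw [ha] at h
        exact pm_two hr hk1 hf (hr.prime.dvd_of_dvd_pow h)
      · have h2 : r ∣ (2 ^ f) ^ 1 - 1 := by
          rw [pow_one]
          exact h.trans ht'
        rw [pm_iff hr hf, Nat.dvd_one] at h2
        omega
    · exact sp4_ndvd hf hF hk hr hC1 h
  · obtain ⟨C1, a, hC1, hc, ha⟩ := h9 (m := 3) (by norm_num) W hW1 hW2 C hC hCW
    rw [hc] at h
    rcases hr.prime.dvd_mul.1 h with h | h
    · have h2 := h.trans ha
      rw [hF] at h2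
      rcases hr.prime.dvd_mul.1 h2 with h2 | h2
      · exact hq h2
      · rw [pm_iff hr hf] at h2
        have := Nat.le_of_dvd (by omega) h2
        omega
    · exact sp4_ndvd hf hF hk hr hC1 h

omit [Fintype F] in
theorem plusTop_iff {ι : Type} [Fintype ι] [DecidableEq ι] {Q : QuadraticForm F (ι → F)} : IsPlusTypeOn (⇑Q) ⊤ ↔ IsPlus Q := by
  constructor
  · rintro ⟨U, -, hU0, hd⟩
    exact ⟨U, fun u hu => hU0 u hu, by rw [hd, finrank_top]⟩
  · rintro ⟨U, hU0, hd⟩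
    exact ⟨U, le_top, fun u hu => hU0 u hu, by rw [finrank_top]; exact hd⟩

/-- `r_6` does not divide the order of `O_6^+(q)` -/
theorem plus_ndvd (hf : 1 ≤ f) (hF : Fintype.card F = 2 ^ f) (hr : Pm (6 * f) r) {Q : (Fin 3 ⊕ Fin 3 → F) → F}
    (hQ : IsNondegenerateQuadraticForm Q) (hpol : ∀ u v, QuadraticMap.polar Q u v = sympForm 3 F u v)
    (hP : IsPlusTypeOn Q ⊤) {H : Subgroup (GL (Fin 3 ⊕ Fin 3) F)} (hH : H ≤ isometryGroup F Q) : ¬ r ∣ Nat.card H := by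
  intro hd
  obtain ⟨Q, rfl, hnd⟩ := Cfsg.Agent.H883.Bridge.exists_quadraticForm hQ
  rw [plusTop_iff] at hP
  have hnd' : Cfsg.Agent.LieClassical.OrthCore.Nondeg Q := by
    intro x hx
    apply eq_zero_of_forall_sympForm_right
    intro z
    rw [← hpol]
    exact hx z
  have hc := Cfsg.Agent.H957.card_isometryGroup_plus Q hnd' (m := 3) (by norm_num) rfl hP
  have hfin : Finite (GL (Fin 3 ⊕ Fin 3) F) := inferInstance
  have h1 := hd.trans (Subgroup.card_dvd_of_le hH)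
  rw [hc, hF, Finset.prod_range_succ, Finset.prod_range_one] at h1
  have h6 : ∀ i, 1 ≤ i → i < 6 → ¬ r ∣ (2 ^ f) ^ i - 1 := by
    intro i h2 h3 h4
    rw [pm_iff hr hf] at h4
    have := Nat.le_of_dvd (by omega) h4
    omega
  have h2 : ¬ r ∣ 2 := pm_two hr (by norm_num) hf
  rcases hr.prime.dvd_mul.1 h1 with h1 | h1
  · rcases hr.prime.dvd_mul.1 h1 with h1 | h1
    · rcases hr.prime.dvd_mul.1 h1 with h1 | h1
      · exact h2 h1
      · exact pm_q hr (by norm_num) hf _ h1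
    · exact h6 3 (by norm_num) (by norm_num) h1
  · rcases hr.prime.dvd_mul.1 h1 with h1 | h1
    · exact h6 2 (by norm_num) (by norm_num) h1
    · exact h6 4 (by norm_num) (by norm_num) h1

/-- `r_3` does not divide the order of `O_6^-(q)` -/
theorem minus_ndvd (hf : 1 ≤ f) (hF : Fintype.card F = 2 ^ f) (hr : Pm (3 * f) r) {Q : (Fin 3 ⊕ Fin 3 → F) → F}
    (hQ : IsNondegenerateQuadraticForm Q) (hpol : ∀ u v, QuadraticMap.polar Q u v = sympForm 3 F u v)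
    (hP : ¬ IsPlusTypeOn Q ⊤) {H : Subgroup (GL (Fin 3 ⊕ Fin 3) F)} (hH : H ≤ isometryGroup F Q) : ¬ r ∣ Nat.card H := by
  intro hd
  obtain ⟨Q, rfl, hnd⟩ := Cfsg.Agent.H883.Bridge.exists_quadraticForm hQ
  rw [plusTop_iff] at hP
  have hnd' : Cfsg.Agent.LieClassical.OrthCore.Nondeg Q := by
    intro x hx
    apply eq_zero_of_forall_sympForm_right
    intro z
    rw [← hpol]
    exact hx z
  have hc := Cfsg.Agent.H957.card_isometryGroup_minus Q hnd' (m := 3) (by norm_num) rfl hP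
  have hfin : Finite (GL (Fin 3 ⊕ Fin 3) F) := inferInstance
  have h1 := hd.trans (Subgroup.card_dvd_of_le hH)
  rw [hc, hF, Finset.prod_range_succ, Finset.prod_range_one] at h1
  have h6 : ∀ i, ¬ 3 ∣ i → ¬ r ∣ (2 ^ f) ^ i - 1 := by
    intro i h3 h4
    rw [pm_iff hr hf] at h4
    exact h3 h4
  have h2 : ¬ r ∣ 2 := pm_two hr (by norm_num) hf
  rcases hr.prime.dvd_mul.1 h1 with h1 | h1
  · rcases hr.prime.dvd_mul.1 h1 with h1 | h1
    · rcases hr.prime.dvd_mul.1 h1 with h1 | h1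
      · exact h2 h1
      · exact pm_q hr (by norm_num) hf _ h1
    · have h3 : r ∣ (2 ^ f) ^ 3 - 1 := (pm_iff hr hf 3).2 dvd_rfl
      have h4 := Nat.dvd_sub h1 h3
      have h5 : 1 ≤ (2 ^ f) ^ 3 := Nat.one_le_pow _ _ (Nat.pow_pos (by norm_num))
      rw [show (2 ^ f) ^ 3 + 1 - ((2 ^ f) ^ 3 - 1) = 2 by omega] at h4
      exact h2 h4
  · rcases hr.prime.dvd_mul.1 h1 with h1 | h1
    · exact h6 2 (by norm_num) h1
    · exact h6 4 (by norm_num) h1

/-- the core: `r_6` divides `|A|` -/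
theorem core3 (h1 : BoxOnly) (h2 : Over3a) (h3 : Over3b) (h6 : BoxO6p) (h7 : BoxO6m) (h8 : BoxP1) (h9 : BoxN2)
    (h10 : CaseA3) (h11 : CaseB3) (hf : 7 ≤ f) (hF : Fintype.card F = 2 ^ f) {A C : Subgroup (GL (Fin 3 ⊕ Fin 3) F)}
    (hP : Pr 3 f A C) (hA : NoOm 3 A) (hC : NoOm 3 C) (hr : Pm (6 * f) r) (hrA : r ∣ Nat.card A) : False := by
  have hf1 : 1 ≤ f := by omega
  obtain ⟨s, hs⟩ := exists_pm (n := 3 * f) (by omega)
  obtain ⟨t, ht⟩ := exists_pm (n := 4 * f) (by omega)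
  obtain ⟨HA, hHA, hAH⟩ := H905.exists_isMaximalIn_of_lt (lt_of_le_of_ne hP.le1 hP.ne1)
  obtain ⟨HC, hHC, hCH⟩ := H905.exists_isMaximalIn_of_lt (lt_of_le_of_ne hP.le2 hP.ne2)
  rcases h1 (m := 3) (k := 4) (by norm_num) hf1 hF (by decide) (by norm_num) (by norm_num) ht A C hP with ⟨htA, -⟩ | ⟨htC, -⟩
  · -- `r_4` divides `|A|`
    rcases h3 (by omega) hF ht HA hHA (htA.trans (Subgroup.card_dvd_of_le hAH)) with ⟨v, hv, h⟩ | ⟨W, hW1, hW2, h⟩ |
      ⟨Q, hQ1, hQ2, h⟩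
    · exact fix_ndvd h8 h9 hf1 hF (Or.inr rfl) hr ht hP.le1 htA (Or.inl ⟨v, hv, hAH.trans h⟩) hrA
    · exact fix_ndvd h8 h9 hf1 hF (Or.inr rfl) hr ht hP.le1 htA (Or.inr ⟨W, hW1, hW2, hAH.trans h⟩) hrA
    · by_cases hpl : IsPlusTypeOn Q ⊤
      · exact plus_ndvd hf1 hF hr hQ1 hQ2 hpl (hAH.trans h) hrA
      · rcases (h7 (by omega) hF Q hQ1 hpl A (hAH.trans h)).1 t r ht hr htA with h12 | ⟨h12, -⟩
        · exact hA Q hQ1 hQ2 h12
        · exact h12 hrA
  · -- `r_4` divides `|C|`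
    by_cases hsA : s ∣ Nat.card A
    · rcases h2 (by omega) hF hr HA hHA (hrA.trans (Subgroup.card_dvd_of_le hAH)) with ⟨K, hK1, hK2, hK3, h⟩ |
        ⟨Q, hQ1, hQ2, hQ3, h⟩ | ⟨P, hP1, hP2⟩
      · exact h10 hf hF hr hs ht A C hP hC hrA hsA htC K hK1 hK2 hK3 (hAH.trans h)
      · exact minus_ndvd hf1 hF hs hQ1 hQ2 hQ3 (hAH.trans h) hsA
      · exact h11 hf hF hr hs ht A C hP hC hrA hsA htC HA P hHA hAH hP1 hP2
    · -- `r_3` divides `|C|`
      have hsC : s ∣ Nat.card C := by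
        obtain ⟨e, he, hc⟩ := hP.card
        have h12 : s ∣ Nat.card (spGL 3 F) := by
          rw [card_spGL, Finset.prod_range_succ, Finset.prod_range_succ, Finset.prod_range_succ, Finset.prod_range_zero,
            one_mul, hF]
          refine Dvd.dvd.mul_left (Dvd.dvd.mul_left ?_ _) _
          rw [pm_iff hs hf1]
          norm_num
        rw [← hc] at h12
        rcases hs.prime.dvd_mul.1 h12 with h12 | h12
        · rcases hs.prime.dvd_mul.1 h12 with h12 | h12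
          · exact absurd h12 hsA
          · exact h12
        · exfalso
          have h13 := Nat.le_of_dvd (by omega) (h12.trans he)
          have h14 : 3 * f ∣ s - 1 := by
            have := Fact.mk hs.prime
            rw [← hs.ord]
            apply orderOf_dvd_of_pow_eq_one
            apply ZMod.pow_card_sub_one_eq_one
            intro h15
            exact pm_two hs (by norm_num) hf1 ((ZMod.natCast_eq_zero_iff 2 s).1 h15)
          have h15 := hs.prime.two_le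
          have h16 := Nat.le_of_dvd (by omega) h14
          omega
      rcases h3 (by omega) hF ht HC hHC (htC.trans (Subgroup.card_dvd_of_le hCH)) with ⟨v, hv, h⟩ | ⟨W, hW1, hW2, h⟩ |
        ⟨Q, hQ1, hQ2, h⟩
      · exact fix_ndvd h8 h9 hf1 hF (Or.inl rfl) hs ht hP.le2 htC (Or.inl ⟨v, hv, hCH.trans h⟩) hsC
      · exact fix_ndvd h8 h9 hf1 hF (Or.inl rfl) hs ht hP.le2 htC (Or.inr ⟨W, hW1, hW2, hCH.trans h⟩) hsC
      · by_cases hpl : IsPlusTypeOn Q ⊤
        · rcases h6 (by omega) hF ht hs Q hQ1 hpl C (hCH.trans h) htC with h12 | ⟨h12, -⟩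
          · exact hC Q hQ1 hQ2 h12
          · exact h12 hsC
        · exact minus_ndvd hf1 hF hs hQ1 hQ2 hpl (hCH.trans h) hsC

theorem pr_symm {m : ℕ} {A C : Subgroup (GL (Fin m ⊕ Fin m) F)} (h : Pr m f A C) : Pr m f C A where
  le1 := h.le2
  le2 := h.le1
  ne1 := h.ne2
  ne2 := h.ne1
  card := by
    obtain ⟨e, he, hc⟩ := h.card
    exact ⟨e, he, by rw [← hc, mul_comm (Nat.card C)]⟩
  conj := by
    intro x hx g hg h1
    have h2 := h.conj _ h1 g⁻¹ (inv_mem hg) (by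
      have e : g⁻¹ * (g * x * g⁻¹) * g⁻¹⁻¹ = x := by group
      rw [e]
      exact hx)
    have e : x = g⁻¹ * (g * x * g⁻¹) * g := by group
    rw [e, h2]
    group

/-- **`m = 3`** -/
theorem main3 (h1 : BoxOnly) (h2 : Over3a) (h3 : Over3b) (h4 : BoxExt) (h5 : BoxPsl2) (h6 : BoxO6p) (h7 : BoxO6m)
    (h8 : BoxP1) (h9 : BoxN2) (h10 : CaseA3) (h11 : CaseB3) : Main3 := by
  intro F _ _ f hf hF A C hP hA hC
  obtain ⟨r, hr⟩ := exists_pm (n := 6 * f) (by omega)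
  rcases h1 (m := 3) (k := 6) (by norm_num) (by omega) hF (by decide) (by norm_num) (by norm_num) hr A C hP with
    ⟨hrA, -⟩ | ⟨hrC, -⟩
  · exact core3 h1 h2 h3 h6 h7 h8 h9 h10 h11 hf hF hP hA hC hr hrA
  · exact core3 h1 h2 h3 h6 h7 h8 h9 h10 h11 hf hF (pr_symm hP) hC hA hr hrC

end Cfsg.Agent.H505.Rs
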