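import Cfsg.Agent.H505.Rs.Irr

/-!
# S3691: the stabiliser of a point in `Sp_2m(q)`, `q` even: `BoxP1` (helper505)

`Setup C v w` : `C` is a group of isometries, `v` an eigenvector of `C`, `sympForm v w = 1`; `W = ⟨v, w⟩`, `U = W^⊥`.
* `lam` : the eigenvalue; `pi` : the projection onto `U`; `rho` : the action on `U ≅ v^⊥ / v`.
-/

set_option autoImplicit false
set_option linter.unusedSectionVars false

open Cfsg Cfsg.Geo Module Cfsg.Agent.ClassicalGeometry.SympBasic
open scoped MatrixGroups Matrix

namespace Cfsg.Agent.H505.Rs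

variable {F : Type*} [Field F] {m : ℕ}

/-- a group of isometries with an eigenvector -/
structure Setup (C : Subgroup (GL (Fin m ⊕ Fin m) F)) (v w : Fin m ⊕ Fin m → F) : Prop where
  iso : C ≤ spGL m F
  stab : C ≤ subspaceStabilizer (Submodule.span F {v})
  one : sympForm m F v w = 1

/-- the plane -/
abbrev Wp (v w : Fin m ⊕ Fin m → F) : Submodule F (Fin m ⊕ Fin m → F) := Submodule.span F {v, w}

theorem mem_Wp {v w x : Fin m ⊕ Fin m → F} : x ∈ Wp v w ↔ ∃ a b : F, a • v + b • w = x := Submodule.mem_span_pair

theorem mem_U {v w x : Fin m ⊕ Fin m → F} :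
    x ∈ Orth (Wp v w) ↔ sympForm m F v x = 0 ∧ sympForm m F w x = 0 := by
  rw [mem_Orth]
  constructor
  · intro h
    exact ⟨h v (Submodule.subset_span (by simp)), h w (Submodule.subset_span (by simp))⟩
  · rintro ⟨h1, h2⟩ y hy
    obtain ⟨a, b, rfl⟩ := mem_Wp.1 hy
    rw [sympForm_add_left, sympForm_smul_left, sympForm_smul_left, h1, h2, mul_zero, mul_zero, add_zero]

section plane

variable {v w : Fin m ⊕ Fin m → F} (h1 : sympForm m F v w = 1)
include h1

theorem wv : sympForm m F w v = -1 := by rw [sympForm_swap, h1]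

theorem Wp_nd : IsNondegenerateOn (sympForm m F) (Wp v w) := by
  have hw := wv h1
  have hv0 : v ∈ Wp v w := Submodule.subset_span (by simp)
  have hw0 : w ∈ Wp v w := Submodule.subset_span (by simp)
  intro x hx hx0
  obtain ⟨a, b, rfl⟩ := mem_Wp.1 hx
  have key : a ≠ 0 ∨ b ≠ 0 := by
    by_contra h
    push Not at h
    apply hx0
    rw [h.1, h.2, zero_smul, zero_smul, add_zero]
  rcases key with ha | hb
  · refine ⟨⟨w, hw0, ?_⟩, ⟨w, hw0, ?_⟩⟩
    · rw [sympForm_add_right, sympForm_smul_right, sympForm_smul_right, hw, sympForm_self, mul_zero, add_zero, mul_neg,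
        mul_one]
      exact neg_ne_zero.2 ha
    · rw [sympForm_add_left, sympForm_smul_left, sympForm_smul_left, h1, sympForm_self, mul_zero, add_zero, mul_one]
      exact ha
  · refine ⟨⟨v, hv0, ?_⟩, ⟨v, hv0, ?_⟩⟩
    · rw [sympForm_add_right, sympForm_smul_right, sympForm_smul_right, h1, sympForm_self, mul_zero, zero_add, mul_one]
      exact hb
    · rw [sympForm_add_left, sympForm_smul_left, sympForm_smul_left, hw, sympForm_self, mul_zero, zero_add, mul_neg,
        mul_one]
      exact neg_ne_zero.2 hb

theorem finrank_Wp : finrank F (Wp v w) = 2 := by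
  have hli : LinearIndependent F ![v, w] := by
    rw [LinearIndependent.pair_iff]
    intro a b hab
    have e1 := congrArg (fun x => sympForm m F x w) hab
    have e2 := congrArg (fun x => sympForm m F v x) hab
    simp only [sympForm_add_left, sympForm_smul_left, h1, sympForm_self, sympForm_zero_left, mul_one, mul_zero,
      add_zero] at e1
    simp only [sympForm_add_right, sympForm_smul_right, h1, sympForm_self, sympForm_zero_right, mul_one, mul_zero,
      zero_add] at e2
    exact ⟨e1, e2⟩
  have h := finrank_span_eq_card hli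
  rw [Matrix.range_cons, Matrix.range_cons, Matrix.range_empty, Set.union_empty, Fintype.card_fin] at h
  exact h

/-- the projection -/
noncomputable def pr (h1 : sympForm m F v w = 1) : (Fin m ⊕ Fin m → F) →ₗ[F] Orth (Wp v w) :=
  LinearMap.codRestrict (Orth (Wp v w))
    { toFun := fun x => x - sympForm m F x w • v + sympForm m F x v • w
      map_add' := fun x y => by
        rw [sympForm_add_left, sympForm_add_left, add_smul, add_smul]
        abel
      map_smul' := fun a x => by
        rw [sympForm_smul_left, sympForm_smul_left, RingHom.id_apply, smul_add, smul_sub, smul_smul, smul_smul] }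
    (fun x => by
      have hw := wv h1
      rw [mem_U]
      constructor
      · change sympForm m F v (x - sympForm m F x w • v + sympForm m F x v • w) = 0
        rw [sympForm_add_right, sympForm_sub_right, sympForm_smul_right, sympForm_smul_right, h1, sympForm_self,
          sympForm_swap v x]
        ring
      · change sympForm m F w (x - sympForm m F x w • v + sympForm m F x v • w) = 0
        rw [sympForm_add_right, sympForm_sub_right, sympForm_smul_right, sympForm_smul_right, hw, sympForm_self,
          sympForm_swap w x]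
        ring)

theorem pr_coe (x : Fin m ⊕ Fin m → F) :
    ((pr h1 x : Orth (Wp v w)) : Fin m ⊕ Fin m → F) = x - sympForm m F x w • v + sympForm m F x v • w := rfl

theorem pr_v : pr h1 v = 0 := by
  apply Subtype.ext
  rw [pr_coe, h1, sympForm_self, one_smul, zero_smul, sub_self, add_zero]
  rfl

theorem pr_w : pr h1 w = 0 := by
  apply Subtype.ext
  rw [pr_coe, wv h1, sympForm_self, neg_smul, one_smul, zero_smul, sub_zero, add_neg_cancel]
  rfl

theorem pr_U (u : Orth (Wp v w)) : pr h1 u = u := by
  apply Subtype.ext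
  obtain ⟨e1, e2⟩ := mem_U.1 u.2
  rw [pr_coe, sympForm_swap (u : Fin m ⊕ Fin m → F) w, sympForm_swap (u : Fin m ⊕ Fin m → F) v, e1, e2, neg_zero,
    zero_smul, zero_smul, sub_zero, add_zero]

/-- decomposition of the vectors orthogonal to `v` -/
theorem eq_pr {x : Fin m ⊕ Fin m → F} (hx : sympForm m F v x = 0) :
    x = (pr h1 x : Orth (Wp v w)) + sympForm m F x w • v := by
  rw [pr_coe, sympForm_swap x v, hx, neg_zero, zero_smul, add_zero, sub_add_cancel]

end plane

section setup

variable {C : Subgroup (GL (Fin m ⊕ Fin m) F)} {v w : Fin m ⊕ Fin m → F} (h : Setup C v w)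
include h

/-- the eigenvalue -/
noncomputable def lam0 (_ : Setup C v w) (c : C) : F := sympForm m F (actV C c v) w

theorem act_v (c : C) : actV C c v = lam0 h c • v := by
  have h1 : actV C c v ∈ Submodule.span F {v} := (h.stab c.2 v).1 (Submodule.mem_span_singleton_self v)
  obtain ⟨a, ha⟩ := Submodule.mem_span_singleton.1 h1
  rw [lam0, ← ha, sympForm_smul_left, h.one, mul_one]

/-- the eigenvalue, as a homomorphism -/
noncomputable def lam : C →* F where
  toFun c := lam0 h c
  map_one' := by
    rw [lam0, map_one, Module.End.one_apply, h.one]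
  map_mul' c d := by
    rw [lam0, map_mul, Module.End.mul_apply, act_v h d, map_smul, act_v h c, smul_smul, sympForm_smul_left, h.one, mul_one,
      mul_comm]

theorem lam_apply (c : C) : lam h c = lam0 h c := rfl

theorem act_v' (c : C) : actV C c v = lam h c • v := act_v h c

theorem act_perp (c : C) {x : Fin m ⊕ Fin m → F} (hx : sympForm m F v x = 0) : sympForm m F v (actV C c x) = 0 := by
  have h1 : v = actV C c (actV C c⁻¹ v) := by
    rw [← Module.End.mul_apply, ← map_mul, mul_inv_cancel, map_one, Module.End.one_apply]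
  rw [h1, actV_form h.iso, act_v' h, sympForm_smul_left, hx, mul_zero]

/-- the action on `U ≅ v^⊥ / v` -/
noncomputable def rho : C →* Module.End F (Orth (Wp v w)) where
  toFun c := (pr h.one).comp ((actV C c).comp (Orth (Wp v w)).subtype)
  map_one' := by
    refine LinearMap.ext fun u => ?_
    change pr h.one (actV C 1 u) = u
    rw [map_one, Module.End.one_apply, pr_U]
  map_mul' c d := by
    refine LinearMap.ext fun u => ?_
    change pr h.one (actV C (c * d) u) = pr h.one (actV C c (pr h.one (actV C d u) : Orth (Wp v w)))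
    have h1 := eq_pr h.one (act_perp h d (mem_U.1 u.2).1)
    rw [map_mul, Module.End.mul_apply]
    conv_lhs => rw [h1, map_add, map_smul, act_v' h c, map_add, map_smul, map_smul, pr_v h.one, smul_zero, smul_zero,
      add_zero]

theorem rho_apply (c : C) (u : Orth (Wp v w)) : rho h c u = pr h.one (actV C c u) := rfl

theorem rho_form (c : C) (x y : Orth (Wp v w)) :
    sympForm m F (rho h c x : Orth (Wp v w)) (rho h c y : Orth (Wp v w)) = sympForm m F x y := by
  have e1 : ((rho h c x : Orth (Wp v w)) : Fin m ⊕ Fin m → F) = actV C c x - sympForm m F (actV C c x) w • v := by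
    have := eq_pr h.one (act_perp h c (mem_U.1 x.2).1)
    rw [eq_sub_iff_add_eq]
    exact this.symm
  have e2 : ((rho h c y : Orth (Wp v w)) : Fin m ⊕ Fin m → F) = actV C c y - sympForm m F (actV C c y) w • v := by
    have := eq_pr h.one (act_perp h c (mem_U.1 y.2).1)
    rw [eq_sub_iff_add_eq]
    exact this.symm
  have h1 := act_perp h c (mem_U.1 x.2).1
  have h2 := act_perp h c (mem_U.1 y.2).1
  rw [e1, e2, sympForm_sub_left, sympForm_sub_right, sympForm_sub_right, sympForm_smul_left, sympForm_smul_left,
    sympForm_smul_right, sympForm_smul_right, sympForm_self, h2, sympForm_swap (actV C c x) v, h1,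
    actV_form h.iso]
  ring

/-- an element acting trivially on `v` and on `v^⊥ / v` -/
def Tr (c : C) : Prop := lam h c = 1 ∧ rho h c = 1

end setup

section tr

variable {C : Subgroup (GL (Fin m ⊕ Fin m) F)} {v w : Fin m ⊕ Fin m → F} {h : Setup C v w}

theorem Tr.fv {c : C} (hc : Tr h c) : actV C c v = v := by rw [act_v' h, hc.1, one_smul]

theorem Tr.fu {c : C} (hc : Tr h c) (u : Orth (Wp v w)) :
    actV C c u = u + sympForm m F (actV C c u) w • v := by
  have h1 := eq_pr h.one (act_perp h c (mem_U.1 u.2).1)
  have h2 : pr h.one (actV C c u) = u := by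
    have := LinearMap.congr_fun hc.2 u
    exact this
  rw [h2] at h1
  exact h1

theorem Tr.fw {c : C} (hc : Tr h c) :
    actV C c w = w + (pr h.one (actV C c w) : Orth (Wp v w)) + sympForm m F (actV C c w) w • v := by
  have h1 : sympForm m F (actV C c w) v = -1 := by
    conv_lhs => rw [← hc.fv]
    rw [actV_form h.iso, wv h.one]
  rw [pr_coe, h1, neg_smul, one_smul]
  abel

/-- elements acting trivially are determined by the image of `w` -/
theorem Tr.ext {c d : C} (hc : Tr h c) (hd : Tr h d) (h1 : pr h.one (actV C c w) = 0) (h2 : pr h.one (actV C d w) = 0)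
    (h3 : sympForm m F (actV C c w) w = sympForm m F (actV C d w) w) : c = d := by
  have key : ∀ e : C, Tr h e → pr h.one (actV C e w) = 0 → ∀ u : Orth (Wp v w), actV C e u = u := by
    intro e he he1 u
    have h4 := he.fu u
    have h5 := he.fw
    rw [he1] at h5
    have h6 : sympForm m F (actV C e u) (actV C e w) = 0 := by
      rw [actV_form h.iso, sympForm_swap, (mem_U.1 u.2).2, neg_zero]
    have h7 : sympForm m F (u : Fin m ⊕ Fin m → F) w = 0 := by rw [sympForm_swap, (mem_U.1 u.2).2, neg_zero]
    have h8 : sympForm m F (u : Fin m ⊕ Fin m → F) v = 0 := by rw [sympForm_swap, (mem_U.1 u.2).1, neg_zero]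
    have h9 : sympForm m F (actV C e u) v = 0 := by
      rw [sympForm_swap, act_perp h e (mem_U.1 u.2).1, neg_zero]
    rw [h5, sympForm_add_right, sympForm_add_right, sympForm_smul_right, h9, mul_zero, add_zero] at h6
    have h10 : sympForm m F (actV C e u) ((0 : Orth (Wp v w)) : Fin m ⊕ Fin m → F) = 0 := sympForm_zero_right _
    rw [h10, add_zero] at h6
    rw [h4, h6, zero_smul, add_zero]
  have hw : actV C c w = actV C d w := by rw [hc.fw, hd.fw, h1, h2, h3]
  have hcd : c⁻¹ * d = 1 := by
    refine actV_inj fun x => ?_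
    have hinv : ∀ y, actV C c⁻¹ (actV C c y) = y := by
      intro y
      rw [← Module.End.mul_apply, ← map_mul, inv_mul_cancel, map_one, Module.End.one_apply]
    rw [map_mul, Module.End.mul_apply]
    have h6 : x ∈ Wp v w ⊔ Orth (Wp v w) := by
      rw [(isCompl_Orth (Wp_nd h.one)).sup_eq_top]
      exact Submodule.mem_top
    obtain ⟨y, hy, u, hu, rfl⟩ := Submodule.mem_sup.1 h6
    obtain ⟨a, b, rfl⟩ := mem_Wp.1 hy
    have e1 : actV C d (a • v + b • w + u) = actV C c (a • v + b • w + u) := by
      have e2 := key c hc h1 ⟨u, hu⟩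
      have e3 := key d hd h2 ⟨u, hu⟩
      simp only at e2 e3
      rw [map_add, map_add, map_smul, map_smul, map_add, map_add, map_smul, map_smul, hc.fv, hd.fv, hw, e2, e3]
    rw [e1, hinv]
  exact (inv_mul_eq_one.1 hcd)

/-- `(c - 1) ^ 3 = 0` -/
theorem Tr.cube {c : C} (hc : Tr h c) (x : Fin m ⊕ Fin m → F) :
    ∃ a : F, (actV C c - 1) ((actV C c - 1) x) = a • v := by
  have h1 : sympForm m F v ((actV C c - 1) x) = 0 := by
    rw [LinearMap.sub_apply, Module.End.one_apply, sympForm_sub_right]
    conv_lhs => rw [← hc.fv]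
    rw [actV_form h.iso, hc.fv, sub_self]
  have h2 := eq_pr h.one h1
  rw [h2, map_add, map_smul]
  have h3 : (actV C c - 1) v = 0 := by rw [LinearMap.sub_apply, Module.End.one_apply, hc.fv, sub_self]
  rw [h3, smul_zero, add_zero, LinearMap.sub_apply, Module.End.one_apply]
  exact ⟨_, sub_eq_of_eq_add' (hc.fu _)⟩

theorem Tr.pow_four (h2 : (2 : F) = 0) {c : C} (hc : Tr h c) : c ^ 4 = 1 := by
  refine actV_inj fun x => ?_
  set N := actV C c - 1 with hN
  have hc1 : actV C c = 1 + N := by rw [hN]; abel
  have hN2 : N + N = 0 := by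
    refine LinearMap.ext fun y => ?_
    rw [LinearMap.add_apply, ← two_smul F, h2, zero_smul]
    rfl
  have hNv : N v = 0 := by rw [hN, LinearMap.sub_apply, Module.End.one_apply, hc.fv, sub_self]
  have h4 : actV C c * actV C c = 1 + N * N := by
    rw [hc1]
    have : (1 + N) * (1 + N) = 1 + (N + N) + N * N := by noncomm_ring
    rw [this, hN2, add_zero]
  have h5 : N * N + N * N = 0 := by rw [← mul_add, hN2, mul_zero]
  have h6 : (actV C c * actV C c) * (actV C c * actV C c) = 1 + (N * N) * (N * N) := by
    rw [h4]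
    have : (1 + N * N) * (1 + N * N) = 1 + (N * N + N * N) + (N * N) * (N * N) := by noncomm_ring
    rw [this, h5, add_zero]
  have h7 : (N * N) * (N * N) = 0 := by
    refine LinearMap.ext fun y => ?_
    obtain ⟨a, ha⟩ := hc.cube y
    have : (N * N * (N * N)) y = N (N (N (N y))) := rfl
    rw [this, ha, map_smul, hNv, smul_zero, map_zero]
    rfl
  rw [show (4 : ℕ) = 2 * 2 from rfl, pow_mul, pow_two, pow_two, map_mul, map_mul, h6, h7, add_zero, Module.End.one_apply]

end tr

end Cfsg.Agent.H505.Rs
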